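import Groth.Agent.GIT36.Regular.StabDim
import Groth.Agent.GIT36.Proj.OrbitSurj
import Groth.Agent.GIT36.FinAction.PropStable

/-!
Regularity of points on affine loci with closed action; constant stabiliser dimension gives closed orbits.
-/

set_option autoImplicit false
set_option backward.isDefEq.respectTransparency.types false
set_option linter.style.haveILetI false
set_option linter.unusedSectionVars false
set_option maxHeartbeats 600000

universe u

open CategoryTheory CategoryTheory.Limits MonoidalCategory CartesianMonoidalCategory MonObj GrpObj AlgebraicGeometry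
open Groth.Agent.GIT36.Proj Groth.Agent.GIT36.FinAction
open Topology (IsConstructible)
open Groth.Agent.E4O (fdeg)

noncomputable section

namespace Groth.Agent.GIT36.Regular

variable {k : Type u} [Field k] {G X : Over (Spec (CommRingCat.of k))} [GrpObj G]
  [LocallyOfFiniteType G.hom] [QuasiCompact G.hom] [ConnectedSpace G.left]
  [LocallyOfFiniteType X.hom] (a : AlgGrp.Action G X)

theorem exists_nat_sd (y : X.left) : ∃ d : ℕ, sd a y = d := by
  obtain ⟨ζ, hζy, hgen, -⟩ := exists_generic (G := G) y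
  haveI := H98EqInt.psi_locallyOfFiniteType a
  refine ⟨fdeg (GIT.psi a (𝟙 X)).left ζ, ?_⟩
  rw [← hζy, ← dim_psi_fibre, ← E4O.dim_fibreClosure]
  refine E4O.dim_set_congr (Set.inter_eq_right.2 fun p hp => ?_).symm
  rw [← specializes_iff_mem_closure]
  refine hgen p ?_
  have h := congrArg (fun q => (snd X X).left q) (show _ = _ from hp)
  simp only [← Scheme.Hom.comp_apply, ← Over.comp_left, GIT.psi, lift_snd] at h
  rw [h, hζy]

/-- on a quotient with orbit fibres the stabiliser dimension is locally constant -/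
theorem exists_open_sd_eq {Y : Over (Spec (CommRingCat.of k))} {φ : X ⟶ Y} (hinv : GIT.IsInvariant a φ)
    (horb : Function.Surjective (GIT.PsiY a φ hinv).base) (y₀ : X.left) :
    ∃ W : X.left.Opens, y₀ ∈ W ∧ ∀ y ∈ W, sd a y = sd a y₀ := by
  let P := pullback φ.left φ.left
  let p₂ : P ⟶ X.left := pullback.snd φ.left φ.left
  let Ψ := GIT.PsiY a φ hinv
  let m : P ⟶ (X ⊗ X).left := pullback.lift (pullback.fst φ.left φ.left) (pullback.snd φ.left φ.left) (by
    rw [← Over.w φ, pullback.condition_assoc])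
  have hm : Ψ ≫ m = (GIT.psi a (𝟙 X)).left := by
    apply pullback.hom_ext
    · simp only [Category.assoc, m, Ψ, GIT.PsiY, pullback.lift_fst]
      show _ = (GIT.psi a (𝟙 X)).left ≫ (fst X X).left
      rw [← Over.comp_left, GIT.psi, lift_fst]
      simp
    · simp only [Category.assoc, m, Ψ, GIT.PsiY, pullback.lift_snd]
      show _ = (GIT.psi a (𝟙 X)).left ≫ (snd X X).left
      rw [← Over.comp_left, GIT.psi, lift_snd]
  haveI : Mono m := ⟨fun f g h => by
    apply pullback.hom_ext
    · have h' := congrArg (fun t => t ≫ pullback.fst X.hom X.hom) h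
      simp only [Category.assoc, m] at h'
      erw [pullback.lift_fst] at h'
      exact h'
    · have h' := congrArg (fun t => t ≫ pullback.snd X.hom X.hom) h
      simp only [Category.assoc, m] at h'
      erw [pullback.lift_snd] at h'
      exact h'⟩
  haveI : LocallyOfFiniteType φ.left := by
    haveI : LocallyOfFiniteType (φ.left ≫ Y.hom) := by rw [Over.w φ]; infer_instance
    exact locallyOfFiniteType_of_comp φ.left Y.hom
  have hsnd : Ψ ≫ p₂ = (snd G X).left := pullback.lift_snd _ _ _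
  haveI : LocallyOfFiniteType (snd G X).left :=
    MorphismProperty.of_isPullback (P := @LocallyOfFiniteType) (IsPullback.of_hasPullback G.hom X.hom) inferInstance
  haveI : LocallyOfFiniteType Ψ := by
    haveI : LocallyOfFiniteType (Ψ ≫ p₂) := by rw [hsnd]; infer_instance
    exact locallyOfFiniteType_of_comp Ψ p₂
  let δ : X.left ⟶ P := pullback.lift (𝟙 _) (𝟙 _) rfl
  have key : ∀ y : X.left, ∃ e d : ℕ, FlatMor.fibreDimAt p₂ (δ y) = e ∧ sd a y = d ∧
      ((d + e : ℕ) : WithBot ℕ∞) = topologicalKrullDim G.left := by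
    intro y
    obtain ⟨ζ, hζy, hgen, hdim⟩ := exists_generic (G := G) y
    have hp₂ : ∀ q, p₂ (Ψ q) = (snd G X).left q := fun q => by rw [← Scheme.Hom.comp_apply, hsnd]
    have hδ : p₂ (δ y) = y := by
      rw [← Scheme.Hom.comp_apply, show δ ≫ p₂ = 𝟙 _ from pullback.lift_snd _ _ _]; rfl
    have hgenP : ∀ z, p₂ z = y → Ψ ζ ⤳ z := by
      intro z hz
      obtain ⟨q, rfl⟩ := horb z
      exact (hgen q (by rw [← hp₂]; exact hz)).map Ψ.continuous
    obtain ⟨z, -, hzy, hfd, -, hmax⟩ := E4O.exists_fibreDimAt_eq p₂ (δ y)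
    rw [hδ] at hzy
    have hz : Ψ ζ = z := hmax _ (hgenP z hzy) (by rw [hp₂, hζy, hδ])
    refine ⟨fdeg p₂ z, fdeg Ψ ζ, hfd, ?_, ?_⟩
    · rw [← hζy, ← dim_psi_fibre, ← E4O.dim_fibreClosure]
      refine E4O.dim_set_congr ?_
      ext q
      simp only [Set.mem_preimage, Set.mem_singleton_iff, Set.mem_inter_iff]
      rw [← hm, Scheme.Hom.comp_apply, Scheme.Hom.comp_apply, m.injective.eq_iff]
      refine ⟨fun h => ⟨?_, h⟩, fun h => h.2⟩
      rw [← specializes_iff_mem_closure]
      exact hgen q (by rw [← hp₂, h, hp₂, hζy])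
    · rw [← hdim, ← hsnd, FibDim94.fdeg_comp, hz]
  obtain ⟨e₀, d₀, he₀, hd₀, hsum₀⟩ := key y₀
  obtain ⟨U, hδU, hU⟩ := E4O.exists_open_forall_fibreDimAt_le p₂ (δ y₀)
  let O : X.left.Opens := ⟨{p | ((d₀ + 1 : ℕ) : WithBot ℕ∞) ≤ topologicalKrullDim ↥((H98EqInt.stToX a).fiber p)}ᶜ,
    (AGF80.StabDim.isClosed_setOf_le_dim_fiber a _).isOpen_compl⟩
  have hO : ∀ y, y ∈ O ↔ ¬ ((d₀ + 1 : ℕ) : WithBot ℕ∞) ≤ sd a y := fun y => by
    show ¬ _ ↔ _
    rw [sd, ← IsHomeomorph.topologicalKrullDim_eq _ ((H98EqInt.stToX a).fiberHomeo y).isHomeomorph]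
    exact Iff.rfl
  refine ⟨δ ⁻¹ᵁ U ⊓ O, ⟨hδU, (hO y₀).2 ?_⟩, fun y hy => ?_⟩
  · rw [hd₀, Nat.cast_le]
    omega
  · obtain ⟨e, d, he, hd, hsum⟩ := key y
    have h1 := hU _ hy.1
    rw [he, he₀, Nat.cast_le] at h1
    have h2 := (hO y).1 hy.2
    rw [hd, Nat.cast_le] at h2
    have h3 : d + e = d₀ + e₀ := by exact_mod_cast hsum.trans hsum₀.symm
    rw [hd, hd₀]
    exact congrArg _ (by omega)

/-- stabiliser dimensions on an invariant open -/
theorem sd_resAct (U : X.left.Opens) (hU : a.act.left ⁻¹ᵁ U = (snd G X).left ⁻¹ᵁ U) (y : (openObj U).left) :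
    sd (resAct a U hU) y = sd a ((openIncl U).left y) := by
  haveI : LocallyOfFiniteType (openObj U).hom := inferInstanceAs (LocallyOfFiniteType (U.ι ≫ X.hom))
  obtain ⟨ζ, hζy, -, -⟩ := exists_generic (G := G) y
  let i := G ◁ openIncl U
  haveI : IsOpenImmersion i.left := by
    show IsOpenImmersion (G ◁ openIncl U).left
    rw [← id_tensorHom]
    exact isOpenImmersion_tensorHom _ _
  let j := openIncl U ⊗ₘ openIncl U
  haveI : IsOpenImmersion j.left := isOpenImmersion_tensorHom _ _
  have sq : GIT.psi (resAct a U hU) (𝟙 _) ≫ j = i ≫ GIT.psi a (𝟙 X) := by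
    apply CartesianMonoidalCategory.hom_ext
    · simp [GIT.psi, i, j, resAct_comp]
    · simp [GIT.psi, i, j]
  have hsn : i ≫ snd G X = snd G (openObj U) ≫ openIncl U := whiskerLeft_snd ..
  have h1 : ∀ p, (GIT.psi a (𝟙 X)).left (i.left p) = j.left ((GIT.psi (resAct a U hU) (𝟙 _)).left p) := fun p => by
    rw [← Scheme.Hom.comp_apply, ← Scheme.Hom.comp_apply, ← Over.comp_left, ← Over.comp_left, sq]
  rw [← hζy, ← dim_psi_fibre, show (openIncl U).left ((snd G (openObj U)).left ζ) = (snd G X).left (i.left ζ) by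
    rw [← Scheme.Hom.comp_apply, ← Scheme.Hom.comp_apply, ← Over.comp_left, ← Over.comp_left, hsn], ← dim_psi_fibre]
  have himg : i.left '' ((GIT.psi (resAct a U hU) (𝟙 _)).left ⁻¹' {(GIT.psi (resAct a U hU) (𝟙 _)).left ζ}) =
      (GIT.psi a (𝟙 X)).left ⁻¹' {(GIT.psi a (𝟙 X)).left (i.left ζ)} := by
    ext p
    constructor
    · rintro ⟨q, hq, rfl⟩
      show _ = _
      rw [h1, h1, show _ = _ from hq]
    · intro hp
      have hq : ∀ q, (snd X X).left ((GIT.psi a (𝟙 X)).left q) = (snd G X).left q := fun q => by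
        rw [← Scheme.Hom.comp_apply, ← Over.comp_left, GIT.psi, lift_snd]
      have hp2 : (snd G X).left p = (snd G X).left (i.left ζ) := by
        rw [← hq, ← hq, show _ = _ from hp]
      have hpU : p ∈ Set.range i.left := by
        show p ∈ Set.range (G ◁ openIncl U).left
        rw [range_whiskerLeft_openIncl]
        show (snd G X).left p ∈ U
        rw [hp2, ← Scheme.Hom.comp_apply, ← Over.comp_left, hsn]
        exact ((snd G (openObj U)).left ζ).2
      obtain ⟨q, rfl⟩ := hpU
      exact ⟨q, j.left.isOpenEmbedding.injective (by rw [← h1, ← h1]; exact hp), rfl⟩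
  rw [← E4O.dim_set_congr himg]
  exact (IsHomeomorph.topologicalKrullDim_eq _ (i.left.isOpenEmbedding.isEmbedding.homeomorphImage _).isHomeomorph)

section Closed

variable [UniversallyOpen G.hom] [QuasiCompact X.hom]

/-- constant stabiliser dimension forces closed orbits -/
theorem closedOrbitsOn_of_sd_const (U : X.left.Opens) (h : ∀ y ∈ U, ∀ y' ∈ U, sd a y = sd a y') :
    GLinSh.ClosedOrbitsOn a U := by
  intro Ω _ _ T eT f hf
  haveI : IsAffine T.left := .of_isIso eT.hom
  haveI : Subsingleton T.left := eT.hom.homeomorph.injective.subsingleton (β := PrimeSpectrum Ω)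
  haveI : Nonempty T.left := ⟨eT.inv (IsLocalRing.closedPoint Ω)⟩
  obtain ⟨t₀⟩ := ‹Nonempty T.left›
  obtain ⟨ζ, -, hgen, hdim⟩ := exists_generic (G := G) (X := T) t₀
  let sN : (X ⊗ T).left ⟶ T.left := (snd X T).left
  haveI : LocallyOfFiniteType sN :=
    MorphismProperty.of_isPullback (P := @LocallyOfFiniteType) (IsPullback.of_hasPullback X.hom T.hom) inferInstance
  haveI : LocallyOfFiniteType (snd G T).left :=
    MorphismProperty.of_isPullback (P := @LocallyOfFiniteType) (IsPullback.of_hasPullback G.hom T.hom) inferInstance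
  haveI : QuasiCompact sN :=
    MorphismProperty.of_isPullback (P := @QuasiCompact) (IsPullback.of_hasPullback X.hom T.hom) inferInstance
  haveI : QuasiCompact (snd G T).left :=
    MorphismProperty.of_isPullback (P := @QuasiCompact) (IsPullback.of_hasPullback G.hom T.hom) inferInstance
  let hN : (X ⊗ T).left ⟶ Spec (CommRingCat.of Ω) := sN ≫ eT.hom
  haveI : LocallyOfFiniteType hN := inferInstanceAs (LocallyOfFiniteType (sN ≫ eT.hom))
  haveI : IsLocallyNoetherian (X ⊗ T).left := LocallyOfFiniteType.isLocallyNoetherian hN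
  haveI : JacobsonSpace (X ⊗ T).left := LocallyOfFiniteType.jacobsonSpace hN
  haveI : CompactSpace (X ⊗ T).left := QuasiCompact.compactSpace_of_compactSpace sN
  haveI : IsNoetherian (X ⊗ T).left := {}
  have hψs : ∀ f : T ⟶ X, (GIT.psi a f).left ≫ sN = (snd G T).left := fun f => by
    rw [← Over.comp_left, GIT.psi, lift_snd]
  have hlft : ∀ f : T ⟶ X, LocallyOfFiniteType (GIT.psi a f).left := fun f => by
    haveI : LocallyOfFiniteType ((GIT.psi a f).left ≫ sN) := by rw [hψs]; infer_instance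
    exact locallyOfFiniteType_of_comp _ sN
  have hcons : ∀ f : T ⟶ X, IsConstructible (Set.range (GIT.psi a f).left.base) := fun f => by
    haveI := hlft f
    haveI : QuasiCompact ((GIT.psi a f).left ≫ sN) := by rw [hψs]; infer_instance
    haveI : QuasiCompact (GIT.psi a f).left := QuasiCompact.of_comp _ sN
    haveI : LocallyOfFinitePresentation (GIT.psi a f).left := inferInstance
    rw [← Set.image_univ]
    exact Scheme.Hom.isConstructible_image _ Topology.IsConstructible.univ
  -- rational points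
  have hpt : ∀ p : (X ⊗ T).left, p ∈ closedPoints (X ⊗ T).left →
      ∃ g : T ⟶ X ⊗ T, g ≫ snd X T = 𝟙 T ∧ g.left t₀ = p := by
    intro p hp
    obtain ⟨⟨s, hs⟩, hsp⟩ := (pointEquivClosedPoint hN).surjective ⟨p, hp⟩
    have e1 : (eT.hom ≫ s) ≫ sN = 𝟙 _ := by
      rw [← cancel_mono eT.hom]
      simp only [Category.assoc, Category.id_comp]
      rw [show s ≫ sN ≫ eT.hom = 𝟙 _ from hs, Category.comp_id]
    refine ⟨Over.homMk (eT.hom ≫ s) ?_, Over.OverMorphism.ext e1, ?_⟩
    · rw [← Over.w (snd X T), ← Category.assoc, e1, Category.id_comp]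
    · show s (eT.hom t₀) = p
      rw [Subsingleton.elim (α := PrimeSpectrum Ω) (eT.hom t₀) (IsLocalRing.closedPoint Ω)]
      exact congrArg Subtype.val hsp
  -- invariance of the closure of an orbit
  let bT : G ⊗ (X ⊗ T) ⟶ X ⊗ T := lift ((G ◁ fst X T) ≫ a.act) (snd G (X ⊗ T) ≫ snd X T)
  have hclo : ∀ g : T ⟶ X ⊗ T, g ≫ snd X T = 𝟙 T → g.left t₀ ∈ closure (Set.range (GIT.psi a f).left.base) →
      Set.range (GIT.psi a (g ≫ fst X T)).left.base ⊆ closure (Set.range (GIT.psi a f).left.base) := by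
    intro g hg hcl
    rintro _ ⟨q, rfl⟩
    have e : (G ◁ g) ≫ bT = GIT.psi a (g ≫ fst X T) := by
      apply CartesianMonoidalCategory.hom_ext
      · simp only [bT, GIT.psi, Category.assoc, lift_fst]
        rw [MonoidalCategory.whiskerLeft_comp_assoc]
      · simp [bT, GIT.psi, hg]
    rw [← e, Over.comp_left, Scheme.Hom.comp_apply]
    have hopen : IsOpenMap (snd G (X ⊗ T)).left := by
      haveI : UniversallyOpen (snd G (X ⊗ T)).left :=
        MorphismProperty.of_isPullback (P := @UniversallyOpen) (IsPullback.of_hasPullback G.hom (X ⊗ T).hom)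
          inferInstance
      exact (snd G (X ⊗ T)).left.isOpenMap
    have h1 : (G ◁ g).left q ∈ closure ((snd G (X ⊗ T)).left ⁻¹' Set.range (GIT.psi a f).left.base) := by
      refine hopen.preimage_closure_subset_closure_preimage ?_
      rw [Set.mem_preimage]
      rw [← Scheme.Hom.comp_apply, ← Over.comp_left, whiskerLeft_snd, Over.comp_left, Scheme.Hom.comp_apply,
        Subsingleton.elim ((snd G T).left q) t₀]
      exact hcl
    refine map_mem_closure bT.left.continuous h1 ?_
    rintro r ⟨w, hw⟩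
    obtain ⟨r', hr', -⟩ := Scheme.exists_preimage_of_isPullback
      (Quot.isPullback_whiskerLeft_left G (GIT.psi a f)) r w hw.symm
    let μT : G ⊗ (G ⊗ T) ⟶ G ⊗ T := lift (fst G (G ⊗ T) * (snd G (G ⊗ T) ≫ fst G T)) (snd G (G ⊗ T) ≫ snd G T)
    have e' : (G ◁ GIT.psi a f) ≫ bT = μT ≫ GIT.psi a f := by
      apply CartesianMonoidalCategory.hom_ext
      · simp only [bT, μT, GIT.psi, Category.assoc, lift_fst, lift_whiskerLeft_assoc]
        rw [AlgGrp79.mul_act', ← MonoidalCategory.whiskerLeft_comp_assoc, lift_fst,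
          MonoidalCategory.whiskerLeft_comp]
        rw [show G ◁ (G ◁ f) ≫ G ◁ a.act = lift (fst G (G ⊗ T)) (snd G (G ⊗ T) ≫ (G ◁ f) ≫ a.act) by ext <;> simp]
        rw [show lift (snd G (G ⊗ T) ≫ fst G T) (snd G (G ⊗ T) ≫ snd G T ≫ f) ≫ a.act =
          snd G (G ⊗ T) ≫ (G ◁ f) ≫ a.act by
          rw [← comp_lift_assoc]
          refine congrArg (_ ≫ ·) (congrArg (· ≫ a.act) ?_)
          ext <;> simp]
      · simp [bT, μT, GIT.psi]
    exact ⟨μT.left r', by rw [← hr', ← Scheme.Hom.comp_apply, ← Scheme.Hom.comp_apply, ← Over.comp_left, ← Over.comp_left, e']⟩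
  -- dimensions
  have hdeg : ∀ f : T ⟶ X, ∃ d : ℕ, sd a (f.left t₀) = d ∧
      ((d + fdeg sN ((GIT.psi a f).left ζ) : ℕ) : WithBot ℕ∞) = topologicalKrullDim G.left := by
    intro f
    haveI := hlft f
    haveI := H98EqInt.psi_locallyOfFiniteType a
    have hsub : ∀ p : (G ⊗ T).left, ζ ⤳ p := fun p => hgen p (Subsingleton.elim _ _)
    refine ⟨fdeg (GIT.psi a f).left ζ, ?_, ?_⟩
    · rw [← E4O.dim_fibreClosure, E4O.dim_set_congr (Set.inter_eq_right.2 fun p _ =>
        specializes_iff_mem_closure.1 (hsub p)), dim_fibre_bc (isPullback_psi a f)]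
      have e : (X ◁ f).left ((GIT.psi a f).left ζ) = (GIT.psi a (𝟙 X)).left ((G ◁ f).left ζ) := by
        rw [← Scheme.Hom.comp_apply, ← Scheme.Hom.comp_apply]
        exact congrArg (fun m : (G ⊗ T).left ⟶ (X ⊗ X).left => m ζ) (isPullback_psi a f).w.symm
      rw [e, dim_psi_fibre, ← Scheme.Hom.comp_apply, ← Over.comp_left, whiskerLeft_snd, Over.comp_left,
        Scheme.Hom.comp_apply, Subsingleton.elim ((snd G T).left ζ) t₀]
    · rw [← hdim, ← hψs f, FibDim94.fdeg_comp]
  -- conclusion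
  rw [← closure_subset_iff_isClosed]
  rintro ⟨p, hpU⟩ hp
  have hp' : p ∈ closure (Set.range (GIT.psi a f).left.base) :=
    map_mem_closure continuous_subtype_val hp fun q hq => hq
  by_contra hne
  let S : Set (X ⊗ T).left := (closure (Set.range (GIT.psi a f).left.base) ∩ ((fst X T).left ⁻¹ᵁ U : Set (X ⊗ T).left))
    \ Set.range (GIT.psi a f).left.base
  have hS : IsConstructible S := by
    refine IsConstructible.sdiff (IsConstructible.inter ?_ ?_) (hcons f)
    · exact IsConstructible.of_compl ((TopologicalSpace.NoetherianSpace.isCompact _).isConstructible isClosed_closure.isOpen_compl)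
    · exact (TopologicalSpace.NoetherianSpace.isCompact _).isConstructible ((fst X T).left ⁻¹ᵁ U).isOpen
  obtain ⟨c, hcS, hc⟩ := exists_closedPoint_of_isConstructible hS ⟨p, ⟨hp', hpU⟩, hne⟩
  obtain ⟨g, hg, hgc⟩ := hpt c hc
  let f' := g ≫ fst X T
  obtain ⟨d, hd, hsum⟩ := hdeg f
  obtain ⟨d', hd', hsum'⟩ := hdeg f'
  have hdd : d = d' := by
    have hU' : f'.left t₀ ∈ U := by
      show (fst X T).left (g.left t₀) ∈ U
      rw [hgc]
      exact hcS.1.2
    have := h _ (hf ⟨t₀, rfl⟩) _ hU'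
    rw [hd, hd'] at this
    exact_mod_cast this
  have hspec : (GIT.psi a f).left ζ ⤳ (GIT.psi a f').left ζ := by
    have hsub : closure (Set.range (GIT.psi a f).left.base) ⊆ closure {(GIT.psi a f).left ζ} := by
      refine closure_minimal ?_ isClosed_closure
      rintro _ ⟨q, rfl⟩
      exact specializes_iff_mem_closure.1 ((hgen q (Subsingleton.elim _ _)).map (GIT.psi a f).left.continuous)
    rw [specializes_iff_mem_closure]
    exact hsub (hclo g hg (by rw [hgc]; exact hcS.1.1) ⟨ζ, rfl⟩)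
  have heq : (GIT.psi a f).left ζ = (GIT.psi a f').left ζ := by
    by_contra hne'
    have := E4O.fdeg_lt (f := sN) hspec (Subsingleton.elim _ _) hne'
    have h3 : d + fdeg sN ((GIT.psi a f).left ζ) = d' + fdeg sN ((GIT.psi a f').left ζ) := by
      exact_mod_cast hsum.trans hsum'.symm
    omega
  -- a common rational point of the two orbits
  obtain ⟨w, ⟨⟨u₁, hu₁⟩, ⟨u₂, hu₂⟩⟩, hw⟩ := exists_closedPoint_of_isConstructible ((hcons f).inter (hcons f'))
    ⟨_, ⟨ζ, rfl⟩, ⟨ζ, heq.symm⟩⟩
  have hrat : ∀ (f : T ⟶ X) (u : (G ⊗ T).left), (GIT.psi a f).left u = w →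
      ∃ h : T ⟶ G, (lift (lift h f ≫ a.act) (𝟙 T)).left t₀ = w := by
    intro f u hu
    let hM : (G ⊗ T).left ⟶ Spec (CommRingCat.of Ω) := (snd G T).left ≫ eT.hom
    haveI : LocallyOfFiniteType hM := inferInstanceAs (LocallyOfFiniteType ((snd G T).left ≫ eT.hom))
    haveI : JacobsonSpace (G ⊗ T).left := LocallyOfFiniteType.jacobsonSpace hM
    obtain ⟨v, hv, hvc⟩ := nonempty_inter_closedPoints (Z := (GIT.psi a f).left.base ⁻¹' {w}) ⟨u, hu⟩
      ((hw : IsClosed ({w} : Set (X ⊗ T).left)).preimage (GIT.psi a f).left.continuous).isLocallyClosed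
    obtain ⟨⟨s, hs⟩, hsv⟩ := (pointEquivClosedPoint hM).surjective ⟨v, hvc⟩
    have e1 : (eT.hom ≫ s) ≫ (snd G T).left = 𝟙 _ := by
      rw [← cancel_mono eT.hom]
      simp only [Category.assoc, Category.id_comp]
      rw [show s ≫ (snd G T).left ≫ eT.hom = 𝟙 _ from hs, Category.comp_id]
    let g' : T ⟶ G ⊗ T := Over.homMk (eT.hom ≫ s) (by
      rw [← Over.w (snd G T), ← Category.assoc, e1, Category.id_comp])
    have hg' : g' ≫ snd G T = 𝟙 T := Over.OverMorphism.ext e1
    refine ⟨g' ≫ fst G T, ?_⟩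
    have e : g' ≫ GIT.psi a f = lift (lift (g' ≫ fst G T) f ≫ a.act) (𝟙 T) := by
      apply CartesianMonoidalCategory.hom_ext
      · simp only [GIT.psi, Category.assoc, lift_fst]
        rw [← Category.assoc]
        refine congrArg (· ≫ a.act) ?_
        ext
        · simp
        · simp [reassoc_of% hg']
      · simp [GIT.psi, hg']
    rw [← e, Over.comp_left, Scheme.Hom.comp_apply]
    show (GIT.psi a f).left (s (eT.hom t₀)) = w
    rw [Subsingleton.elim (α := PrimeSpectrum Ω) (eT.hom t₀) (IsLocalRing.closedPoint Ω),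
      show s (IsLocalRing.closedPoint Ω) = v from congrArg Subtype.val hsv]
    exact hv
  obtain ⟨h₁, hh₁⟩ := hrat f u₁ hu₁
  obtain ⟨h₂, hh₂⟩ := hrat f' u₂ hu₂
  have hpts : lift (lift h₁ f ≫ a.act) (𝟙 T) = lift (lift h₂ f' ≫ a.act) (𝟙 T) := by
    refine Over.OverMorphism.ext ((cancel_epi eT.inv).1 ?_)
    refine ext_of_apply_closedPoint_eq hN ?_ ?_ ?_
    · simp only [hN, Category.assoc, sN, ← Over.comp_left_assoc, lift_snd, Over.id_left, Category.id_comp,
        Iso.inv_hom_id]
    · simp only [hN, Category.assoc, sN, ← Over.comp_left_assoc, lift_snd, Over.id_left, Category.id_comp,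
        Iso.inv_hom_id]
    · show (lift (lift h₁ f ≫ a.act) (𝟙 T)).left (eT.inv _) = (lift (lift h₂ f' ≫ a.act) (𝟙 T)).left (eT.inv _)
      rw [Subsingleton.elim (eT.inv _) t₀, hh₁, hh₂]
  have hf' : lift (h₂⁻¹ * h₁) f ≫ a.act = f' := by
    have := congrArg (fun m => m ≫ fst X T) hpts
    simp only [lift_fst] at this
    rw [AlgGrp79.mul_act', this, AlgGrp79.inv_act_act]
  apply hcS.2
  refine ⟨(lift (h₂⁻¹ * h₁) (𝟙 T)).left t₀, ?_⟩
  have e : lift (h₂⁻¹ * h₁) (𝟙 T) ≫ GIT.psi a f = g := by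
    apply CartesianMonoidalCategory.hom_ext
    · simp only [GIT.psi, Category.assoc, lift_fst, lift_whiskerLeft_assoc, Category.id_comp]
      exact hf'
    · simp [GIT.psi, hg]
  rw [← Scheme.Hom.comp_apply, ← Over.comp_left, e, hgc]

end Closed

end Groth.Agent.GIT36.Regular
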