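import Groth.Agent.GIT36.PropAct.StabFinite
import Groth.Agent.GIT36.Quot.Pts
import Groth.Agent.GIT36.Stab.Fibre
import Groth.Agent.AlgGrp79.BorelDesc
import Groth.Agent.RedPts82.GrpIrred
import Groth.Agent.FibDim94.Comp

/-!
Dimensions of stabilisers and of orbits at arbitrary points of a scheme over a field.
-/

set_option autoImplicit false
set_option backward.isDefEq.respectTransparency.types false
set_option linter.style.haveILetI false
set_option linter.unusedSectionVars false
set_option maxHeartbeats 600000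

universe u

open CategoryTheory CategoryTheory.Limits MonoidalCategory CartesianMonoidalCategory MonObj GrpObj AlgebraicGeometry
open Groth.Agent.H98EqInt (stToX stIncl)
open Groth.Agent.E4O (fdeg)

noncomputable section

namespace Groth.Agent.GIT36.Regular

/-- the fibre of a base change at a residue field point has the dimension of the fibre -/
theorem dim_pullback_residue {A B Q : Scheme.{u}} (f : A ⟶ B) [LocallyOfFiniteType f] (g : Q ⟶ B) (q : Q) :
    topologicalKrullDim ↥(pullback f (Q.fromSpecResidueField q ≫ g)) = topologicalKrullDim ↥(f ⁻¹' {g q}) := by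
  haveI : LocallyOfFiniteType (f.fiberToSpecResidueField (g q)) :=
    MorphismProperty.pullback_snd (P := @LocallyOfFiniteType) _ _ inferInstance
  rw [← IsHomeomorph.topologicalKrullDim_eq _ (f.fiberHomeo (g q)).isHomeomorph,
    ← Grpd80.dim_pullback_point (k := B.residueField (g q)) (L := Q.residueField q) (Iso.refl _)
      (f.fiberToSpecResidueField (g q)) (Spec.map (g.residueFieldMap q))]
  exact IsHomeomorph.topologicalKrullDim_eq _ (pullback.congrHom rfl
    (Scheme.Hom.SpecMap_residueFieldMap_fromSpecResidueField g q).symm ≪≫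
    (pullbackLeftPullbackSndIso f (B.fromSpecResidueField (g q)) (Spec.map (g.residueFieldMap q))).symm).hom.homeomorph.isHomeomorph

/-- fibres of a base change have the dimensions of the fibres -/
theorem dim_fibre_bc {P Q A B : Scheme.{u}} {p : P ⟶ A} {f' : P ⟶ Q} {f : A ⟶ B} {g : Q ⟶ B}
    [LocallyOfFiniteType f] (h : IsPullback p f' f g) (q : Q) :
    topologicalKrullDim ↥(f' ⁻¹' {q}) = topologicalKrullDim ↥(f ⁻¹' {g q}) := by
  rw [← IsHomeomorph.topologicalKrullDim_eq _ (f'.fiberHomeo q).isHomeomorph, ← dim_pullback_residue f g q]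
  exact IsHomeomorph.topologicalKrullDim_eq _
    ((IsPullback.of_hasPullback f' (Q.fromSpecResidueField q)).flip.paste_vert h.flip).flip.isoPullback.hom.homeomorph.isHomeomorph

section Action

variable {k : Type u} [Field k] {G X : Over (Spec (CommRingCat.of k))} [GrpObj G]
  [LocallyOfFiniteType G.hom] [LocallyOfFiniteType X.hom] (a : AlgGrp.Action G X)

/-- the dimension of the stabiliser of a point -/
def sd (y : X.left) : WithBot ℕ∞ := topologicalKrullDim ↥(stToX a ⁻¹' {y})

theorem dim_stab_eq (y : X.left) :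
    topologicalKrullDim (GLinSh.stab a (Over.homMk (X.left.fromSpecResidueField y) rfl :
      Over.mk (X.left.fromSpecResidueField y ≫ X.hom) ⟶ X)) = sd a y := by
  rw [sd, ← IsHomeomorph.topologicalKrullDim_eq _ ((stToX a).fiberHomeo y).isHomeomorph]
  exact IsHomeomorph.topologicalKrullDim_eq _ (Stab.stabIso a _).hom.homeomorph.isHomeomorph

omit [LocallyOfFiniteType G.hom] [LocallyOfFiniteType X.hom] in
/-- the orbit map of a point is the base change of the action map -/
theorem isPullback_psi {T : Over (Spec (CommRingCat.of k))} (y : T ⟶ X) :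
    IsPullback (G ◁ y).left (GIT.psi a y).left (GIT.psi a (𝟙 X)).left (X ◁ y).left := by
  refine IsPullback.of_bot ?_ ?_ (Quot.isPullback_whiskerLeft_left X y)
  · rw [← Over.comp_left, ← Over.comp_left, GIT.psi, GIT.psi, lift_snd, lift_snd]
    exact Quot.isPullback_whiskerLeft_left G y
  · rw [← Over.comp_left, ← Over.comp_left]
    refine congrArg CommaMorphism.left ?_
    apply CartesianMonoidalCategory.hom_ext
    · simp [GIT.psi]
    · simp [GIT.psi]

/-- the fibres of the action map have the dimension of the stabiliser -/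
theorem dim_psi_fibre (ζ : (G ⊗ X).left) :
    topologicalKrullDim ↥((GIT.psi a (𝟙 X)).left ⁻¹' {(GIT.psi a (𝟙 X)).left ζ}) =
      sd a ((snd G X).left ζ) := by
  haveI := H98EqInt.psi_locallyOfFiniteType a
  haveI := H98EqInt.stToX_locallyOfFiniteType a
  let T : Over (Spec (CommRingCat.of k)) := Over.mk ((G ⊗ X).left.fromSpecResidueField ζ ≫ (G ⊗ X).hom)
  let P0 : T ⟶ G ⊗ X := Over.homMk ((G ⊗ X).left.fromSpecResidueField ζ) rfl
  let g := P0 ≫ fst G X
  let y := P0 ≫ snd G X
  let z := lift g y ≫ a.act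
  -- the two sides
  rw [← dim_pullback_residue (GIT.psi a (𝟙 X)).left (GIT.psi a (𝟙 X)).left ζ, sd,
    ← dim_pullback_residue (stToX a) (snd G X).left ζ]
  have ez : (lift z (𝟙 T)).left ≫ (X ◁ y).left =
      (G ⊗ X).left.fromSpecResidueField ζ ≫ (GIT.psi a (𝟙 X)).left := by
    rw [← Over.comp_left]
    show _ = P0.left ≫ _
    rw [← Over.comp_left]
    refine congrArg CommaMorphism.left ?_
    apply CartesianMonoidalCategory.hom_ext
    · have hP : P0 = lift g y := by ext <;> simp [g, y]
      simp only [Category.assoc, whiskerLeft_fst, lift_fst, GIT.psi, MonoidalCategory.whiskerLeft_id, Category.id_comp]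
      rw [hP]
    · simp [GIT.psi, y]
  let e₁ : pullback (GIT.psi a (𝟙 X)).left ((G ⊗ X).left.fromSpecResidueField ζ ≫ (GIT.psi a (𝟙 X)).left) ≅
      pullback (GIT.psi a y).left (lift z (𝟙 T)).left :=
    pullback.congrHom rfl ez.symm ≪≫
      (((IsPullback.of_hasPullback (GIT.psi a y).left (lift z (𝟙 T)).left).flip.paste_vert
        (isPullback_psi a y).flip).flip.isoPullback).symm
  let L : G ⊗ T ⟶ G ⊗ T := lift ((snd G T ≫ g)⁻¹ * fst G T) (snd G T)
  let Linv : G ⊗ T ⟶ G ⊗ T := lift ((snd G T ≫ g) * fst G T) (snd G T)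
  let A : X ⊗ T ⟶ X ⊗ T := lift (lift (snd X T ≫ g⁻¹) (fst X T) ≫ a.act) (snd X T)
  let Ainv : X ⊗ T ⟶ X ⊗ T := lift (lift (snd X T ≫ g) (fst X T) ≫ a.act) (snd X T)
  haveI : IsIso L := ⟨Linv, by ext <;> simp [L, Linv, MonObj.comp_mul, GrpObj.comp_inv],
    by ext <;> simp [L, Linv, MonObj.comp_mul, GrpObj.comp_inv]⟩
  haveI : IsIso A := by
    refine ⟨Ainv, ?_, ?_⟩
    · apply CartesianMonoidalCategory.hom_ext
      · simp only [A, Ainv, Category.assoc, lift_fst, comp_lift_assoc, lift_snd_assoc, Category.id_comp]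
        rw [← AlgGrp79.mul_act', ← MonObj.comp_mul, mul_inv_cancel, MonObj.comp_one, AlgGrp79.one_act']
      · simp [A, Ainv]
    · apply CartesianMonoidalCategory.hom_ext
      · simp only [A, Ainv, Category.assoc, lift_fst, comp_lift_assoc, lift_snd_assoc, Category.id_comp]
        rw [← AlgGrp79.mul_act', ← MonObj.comp_mul, inv_mul_cancel, MonObj.comp_one, AlgGrp79.one_act']
      · simp [A, Ainv]
  have sq : L ≫ GIT.psi a y = GIT.psi a y ≫ A := by
    apply CartesianMonoidalCategory.hom_ext
    · simp only [L, A, GIT.psi, Category.assoc, lift_fst, comp_lift_assoc, lift_snd_assoc, lift_whiskerLeft_assoc]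
      rw [AlgGrp79.mul_act']
      simp only [GrpObj.comp_inv]
      refine congrArg (fun w => lift (snd G T ≫ g)⁻¹ w ≫ a.act) ?_
      refine congrArg (· ≫ a.act) ?_
      ext <;> simp
    · simp [L, A, GIT.psi]
  have ey : lift z (𝟙 T) ≫ A = lift y (𝟙 T) := by
    apply CartesianMonoidalCategory.hom_ext
    · simp only [A, z, Category.assoc, lift_fst, comp_lift_assoc, lift_snd_assoc, Category.id_comp]
      exact AlgGrp79.inv_act_act a g y
    · simp [A]
  haveI : IsIso L.left := ((Over.forget _).mapIso (asIso L)).isIso_hom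
  haveI : IsIso A.left := ((Over.forget _).mapIso (asIso A)).isIso_hom
  let e₂ : pullback (GIT.psi a y).left (lift z (𝟙 T)).left ≅ GLinSh.stab a y :=
    @asIso _ _ _ _ (pullback.map (GIT.psi a y).left (lift z (𝟙 T)).left (GIT.psi a y).left (lift y (𝟙 T)).left
      L.left (𝟙 _) A.left (by rw [← Over.comp_left, ← Over.comp_left, sq])
      (by rw [← Over.comp_left, ey, Category.id_comp])) (pullback.map_isIso ..)
  exact IsHomeomorph.topologicalKrullDim_eq _ (e₁ ≪≫ e₂ ≪≫ Stab.stabIso a y).hom.homeomorph.isHomeomorph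

/-- the dimension of the stabiliser is invariant -/
theorem sd_act (r : (G ⊗ X).left) : sd a (a.act.left r) = sd a ((snd G X).left r) := by
  let i : G ⊗ X ⟶ G ⊗ X := lift (fst G X)⁻¹ a.act
  let w : X ⊗ X ⟶ X ⊗ X := lift (snd X X) (fst X X)
  have hi : i ≫ i = 𝟙 _ := by
    apply CartesianMonoidalCategory.hom_ext
    · simp [i, GrpObj.comp_inv]
    · simp only [i, Category.assoc, lift_snd, Category.id_comp]
      conv_rhs => rw [← AlgGrp79.inv_act_act a (fst G X) (snd G X)]
      simp [lift_fst_snd]
  have hw : w ≫ w = 𝟙 _ := by ext <;> simp [w]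
  have sq : i ≫ GIT.psi a (𝟙 X) = GIT.psi a (𝟙 X) ≫ w := by
    apply CartesianMonoidalCategory.hom_ext
    · simp only [i, w, GIT.psi, MonoidalCategory.whiskerLeft_id, Category.id_comp, Category.assoc, lift_fst, lift_snd]
      conv_rhs => rw [← AlgGrp79.inv_act_act a (fst G X) (snd G X)]
      simp [lift_fst_snd]
    · simp [i, w, GIT.psi]
  haveI : IsIso i.left := ((Over.forget _).mapIso ⟨i, i, hi, hi⟩).isIso_hom
  haveI : IsIso w.left := ((Over.forget _).mapIso ⟨w, w, hw, hw⟩).isIso_hom
  rw [show a.act.left r = (snd G X).left (i.left r) by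
    rw [← Scheme.Hom.comp_apply, ← Over.comp_left, lift_snd],
    ← dim_psi_fibre, ← dim_psi_fibre]
  have hmem : ∀ p, p ∈ (GIT.psi a (𝟙 X)).left ⁻¹' {(GIT.psi a (𝟙 X)).left r} ↔
      i.left.homeomorph p ∈ (GIT.psi a (𝟙 X)).left ⁻¹' {(GIT.psi a (𝟙 X)).left (i.left r)} := fun p => by
    show _ = _ ↔ (GIT.psi a (𝟙 X)).left (i.left p) = (GIT.psi a (𝟙 X)).left (i.left r)
    have h : i.left ≫ (GIT.psi a (𝟙 X)).left = (GIT.psi a (𝟙 X)).left ≫ w.left := by
      rw [← Over.comp_left, sq, Over.comp_left]
    rw [← Scheme.Hom.comp_apply, ← Scheme.Hom.comp_apply i.left, h, Scheme.Hom.comp_apply, Scheme.Hom.comp_apply,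
      w.left.homeomorph.injective.eq_iff.symm]
    rfl
  exact (IsHomeomorph.topologicalKrullDim_eq _ (i.left.homeomorph.subtype hmem).isHomeomorph).symm

omit [LocallyOfFiniteType X.hom] in
/-- the fibres of the projection from the group are irreducible of the dimension of the group -/
theorem exists_generic [QuasiCompact G.hom] [ConnectedSpace G.left] (y : X.left) :
    ∃ ζ : (G ⊗ X).left, (snd G X).left ζ = y ∧ (∀ p, (snd G X).left p = y → ζ ⤳ p) ∧
      (fdeg (snd G X).left ζ : WithBot ℕ∞) = topologicalKrullDim G.left := by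
  let σ := X.left.fromSpecResidueField y ≫ X.hom
  let K := AlgebraicClosure (X.left.residueField y)
  let τ : Spec (CommRingCat.of K) ⟶ Spec (X.left.residueField y) :=
    Spec.map (CommRingCat.ofHom (algebraMap (X.left.residueField y) K))
  haveI := AlgGrp79.BorelDesc.connectedSpace_bc (G := G) (τ ≫ σ)
  haveI : LocallyOfFiniteType (Red.bc (τ ≫ σ) G).hom := inferInstanceAs (LocallyOfFiniteType (pullback.snd G.hom _))
  haveI : CompactSpace (Red.bc (τ ≫ σ) G).left := by
    haveI : QuasiCompact (Red.bc (τ ≫ σ) G).hom := inferInstanceAs (QuasiCompact (pullback.snd G.hom _))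
    exact QuasiCompact.compactSpace_of_compactSpace (Red.bc (τ ≫ σ) G).hom
  haveI hK : IrreducibleSpace ↥(pullback G.hom (τ ≫ σ)) :=
    RedPts82.irreducibleSpace_of_connected_grp (Red.bc (τ ≫ σ) G)
  have hsnd : IsPullback (fst G X).left (snd G X).left G.hom X.hom := IsPullback.of_hasPullback G.hom X.hom
  let e : (snd G X).left.fiber y ≅ pullback G.hom σ :=
    ((IsPullback.of_hasPullback (snd G X).left (X.left.fromSpecResidueField y)).flip.paste_vert
      hsnd.flip).flip.isoPullback
  haveI : Surjective τ := ⟨fun z => ⟨IsLocalRing.closedPoint _,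
    Subsingleton.elim (α := PrimeSpectrum (X.left.residueField y)) _ _⟩⟩
  let m : pullback G.hom (τ ≫ σ) ⟶ pullback G.hom σ :=
    (pullbackLeftPullbackSndIso G.hom σ τ).inv ≫ pullback.fst (pullback.snd G.hom σ) τ
  haveI : Surjective (pullback.fst (pullback.snd G.hom σ) τ) :=
    MorphismProperty.pullback_fst (P := @Surjective) _ _ inferInstance
  haveI : Surjective m := inferInstance
  haveI : IrreducibleSpace ((snd G X).left.fiber y) :=
    (m ≫ e.inv).surjective.irreducibleSpace (m ≫ e.inv).continuous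
  let ζ := (snd G X).left.fiberι y (genericPoint ((snd G X).left.fiber y))
  have hζ : (snd G X).left ζ = y := ((snd G X).left.fiberHomeo y (genericPoint _)).2
  have hgen : ∀ p, (snd G X).left p = y → ζ ⤳ p := by
    intro p hp
    obtain ⟨q, rfl⟩ : p ∈ Set.range ((snd G X).left.fiberι y) := by
      rw [Scheme.Hom.range_fiberι]
      exact hp
    exact (genericPoint_specializes q).map ((snd G X).left.fiberι y).continuous
  haveI : LocallyOfFiniteType (snd G X).left := MorphismProperty.of_isPullback (P := @LocallyOfFiniteType) hsnd inferInstance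
  refine ⟨ζ, hζ, hgen, ?_⟩
  rw [← E4O.dim_fibreClosure, E4O.dim_set_congr (t := (snd G X).left ⁻¹' {y}) ?_, dim_fibre_bc hsnd y,
    E4O.dim_set_congr (t := Set.univ) ?_]
  · exact IsHomeomorph.topologicalKrullDim_eq _ (Homeomorph.Set.univ G.left).isHomeomorph
  · exact Set.eq_univ_of_forall fun p => Subsingleton.elim (α := PrimeSpectrum k) _ _
  · rw [hζ]
    refine Set.inter_eq_right.2 fun p hp => ?_
    rw [← specializes_iff_mem_closure]
    exact hgen p hp

end Action

end Groth.Agent.GIT36.Regular
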