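import Groth.Agent.GIT36.Regular.Main
import Groth.Agent.GIT36.SSRed.TwoLifts
import Groth.Agent.GIT36.Glue.Main
import Groth.Agent.GIT36.Sections.Extend
import Groth.Agent.GIT36.AffQuot.Main

/-!
Stable points: regularity, closed orbits in the semistable locus, and the converse.
-/

set_option autoImplicit false
set_option backward.isDefEq.respectTransparency.types false
set_option linter.style.haveILetI false
set_option linter.unusedSectionVars false
set_option maxHeartbeats 800000

universe u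

open CategoryTheory CategoryTheory.Limits MonoidalCategory CartesianMonoidalCategory MonObj GrpObj AlgebraicGeometry
open Groth.Agent.GIT36.Proj Groth.Agent.GIT36.FinAction Groth.Agent.GIT36.Quot Groth.Agent.H98EqInt Groth.Agent.GIT36.Sections

noncomputable section

namespace Groth.Agent.GIT36.Regular

variable {k : Type u} [Field k] {G X : Over (Spec (CommRingCat.of k))} [GrpObj G] {a : AlgGrp.Action G X}

/-- a geometric point over a given point -/
theorem exists_geom_pt (x : X.left) : ∃ (Ω : Type u) (_ : Field Ω) (_ : IsAlgClosed Ω)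
    (T : Over (Spec (CommRingCat.of k))) (_ : T.left ≅ Spec (CommRingCat.of Ω)) (f : T ⟶ X),
      Set.range f.left.base = {x} := by
  let Ω := AlgebraicClosure (X.left.residueField x)
  let p : Spec (CommRingCat.of Ω) ⟶ X.left :=
    Spec.map (CommRingCat.ofHom (algebraMap (X.left.residueField x) Ω)) ≫ X.left.fromSpecResidueField x
  refine ⟨Ω, inferInstance, inferInstance, Over.mk (p ≫ X.hom), Iso.refl _, Over.homMk p rfl, ?_⟩
  have hp : ∀ z, p z = x := fun z => by
    rw [Scheme.Hom.comp_apply]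
    exact Scheme.fromSpecResidueField_apply x _
  show Set.range p = {x}
  ext y
  exact ⟨fun ⟨z, hz⟩ => (hz.symm.trans (hp z) : y = x), fun h => ⟨IsLocalRing.closedPoint _, (hp _).trans h.symm⟩⟩

theorem isClosed_range_res {U : X.left.Opens} (hU : a.act.left ⁻¹ᵁ U = (snd G X).left ⁻¹ᵁ U)
    {T : Over (Spec (CommRingCat.of k))} (f : T ⟶ openObj U)
    (h : IsClosed ((fun p : (fst X T).left ⁻¹ᵁ U => (p : (X ⊗ T).left)) ⁻¹'
      Set.range (GIT.psi a (f ≫ openIncl U)).left.base)) :
    IsClosed (Set.range (GIT.psi (resAct a U hU) f).left.base) := by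
  let j : openObj U ⊗ T ⟶ X ⊗ T := openIncl U ▷ T
  haveI : IsOpenImmersion j.left :=
    MorphismProperty.of_isPullback (P := @IsOpenImmersion) (Quot.isPullback_whiskerRight_left T (openIncl U)).flip
      inferInstance
  have e₁ : GIT.psi (resAct a U hU) f ≫ j = GIT.psi a (f ≫ openIncl U) := by
    apply CartesianMonoidalCategory.hom_ext
    · simp only [GIT.psi, j, Category.assoc, whiskerRight_fst, lift_fst_assoc, lift_fst]
      rw [resAct_comp, MonoidalCategory.whiskerLeft_comp_assoc]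
    · simp only [GIT.psi, j, Category.assoc, whiskerRight_snd, lift_snd]
  have hmem : ∀ p, j.left p ∈ (fst X T).left ⁻¹ᵁ U := fun p => by
    show (j ≫ fst X T).left p ∈ U
    rw [whiskerRight_fst]
    exact ((fst (openObj U) T).left p).2
  convert h.preimage (f := fun p => (⟨j.left p, hmem p⟩ : (fst X T).left ⁻¹ᵁ U))
    (j.left.continuous.subtype_mk _) using 1
  ext p
  show p ∈ Set.range _ ↔ j.left p ∈ Set.range _
  rw [← e₁, Over.comp_left, Scheme.Hom.comp_base, TopCat.coe_comp, Set.range_comp]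
  exact (Function.Injective.mem_set_image j.left.isOpenEmbedding.injective).symm

/-- the closure of an invariant set is invariant -/
theorem image_closure [UniversallyOpen G.hom] {s : Set X.left}
    (hs : ∀ r : (G ⊗ X).left, (snd G X).left r ∈ s → a.act.left r ∈ s) :
    a.act.left.base '' ((snd G X).left.base ⁻¹' closure s) ⊆ closure s := by
  haveI : UniversallyOpen (snd G X).left :=
    MorphismProperty.of_isPullback (P := @UniversallyOpen) (IsPullback.of_hasPullback G.hom X.hom) inferInstance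
  rintro _ ⟨r, hr, rfl⟩
  exact map_mem_closure a.act.left.continuous ((snd G X).left.isOpenMap.preimage_closure_subset_closure_preimage hr) hs

theorem inv_topIso' (U : X.left.Opens) (hU : a.act.left ⁻¹ᵁ U = (snd G X).left ⁻¹ᵁ U)
    (q : Γ((openObj U).left, ⊤)) (hq : AffQuot.Inv (resAct a U hU) q) :
    a.act.left.appLE U ((snd G X).left ⁻¹ᵁ U) hU.ge (U.topIso.hom q) =
      (snd G X).left.appLE U ((snd G X).left ⁻¹ᵁ U) le_rfl (U.topIso.hom q) := by
  let i := (G ◁ openIncl U).left
  haveI : IsOpenImmersion i := by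
    show IsOpenImmersion (G ◁ openIncl U).left
    rw [← id_tensorHom]
    exact isOpenImmersion_tensorHom _ _
  have hi : i ⁻¹ᵁ ((snd G X).left ⁻¹ᵁ U) = ⊤ := by
    ext p
    refine ⟨fun _ => trivial, fun _ => ?_⟩
    show ((G ◁ openIncl U).left ≫ (snd G X).left) p ∈ U
    rw [← Over.comp_left, whiskerLeft_snd]
    exact ((snd G (openObj U)).left p).2
  have hinj : Function.Injective (i.appLE ((snd G X).left ⁻¹ᵁ U) ⊤ hi.ge) := by
    have hr : (snd G X).left ⁻¹ᵁ U ≤ i.opensRange := by
      intro p hp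
      show p ∈ Set.range (G ◁ openIncl U).left
      rw [range_whiskerLeft_openIncl]
      exact hp
    haveI : IsIso (i.app ((snd G X).left ⁻¹ᵁ U)) := i.isIso_app _ hr
    haveI : IsIso ((G ⊗ openObj U).left.presheaf.map (homOfLE hi.ge).op) := by
      rw [show (homOfLE hi.ge) = eqToHom hi.symm from Subsingleton.elim _ _]
      infer_instance
    rw [Scheme.Hom.appLE]
    exact (ConcreteCategory.bijective_of_isIso
      (i.app ((snd G X).left ⁻¹ᵁ U) ≫ (G ⊗ openObj U).left.presheaf.map (homOfLE hi.ge).op)).1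
  apply hinj
  have hq' : U.ι.appLE U ⊤ U.ι_preimage_self.ge (U.topIso.hom q) = q := by
    have e : U.topIso.hom ≫ U.ι.appLE U ⊤ U.ι_preimage_self.ge = 𝟙 _ := by
      rw [Scheme.Opens.ι_appLE, Scheme.Opens.topIso_hom]
      exact (X.left.presheaf.map_comp _ _).symm.trans (X.left.presheaf.map_id _)
    exact congr($e q)
  have key : ∀ (σ : G ⊗ openObj U ⟶ openObj U) (τ : G ⊗ X ⟶ X), σ ≫ openIncl U = (G ◁ openIncl U) ≫ τ →
      ∀ (e : ((snd G X).left ⁻¹ᵁ U) ≤ τ.left ⁻¹ᵁ U),
        i.appLE _ ⊤ hi.ge (τ.left.appLE U _ e (U.topIso.hom q)) = σ.left.appTop q := fun σ τ h e => by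
    have h' : i ≫ τ.left = σ.left ≫ U.ι := (congrArg CategoryTheory.CommaMorphism.left h).symm
    conv_rhs => rw [← hq']
    rw [show σ.left.appTop = σ.left.appLE ⊤ ⊤ le_rfl from Scheme.Hom.app_eq_appLE _]
    exact (congr($(Scheme.Hom.appLE_comp_appLE i τ.left _ _ _ e hi.ge) (U.topIso.hom q))).trans
      ((congr($(LineBundle.appLE_congr_hom h' _ _).hom (U.topIso.hom q))).trans
        (congr($(Scheme.Hom.appLE_comp_appLE σ.left U.ι _ _ _ U.ι_preimage_self.ge le_rfl) (U.topIso.hom q))).symm)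
  exact (key _ a.act (resAct_comp a U hU) hU.ge).trans (hq.trans (key _ (snd G X) (whiskerLeft_snd ..).symm le_rfl).symm)

/-- invariance in the image form can be read backwards -/
theorem mem_of_act_mem {s : Set X.left} (hs : a.act.left.base '' ((snd G X).left.base ⁻¹' s) ⊆ s)
    (r : (G ⊗ X).left) (hr : a.act.left r ∈ s) : (snd G X).left r ∈ s := by
  let i : G ⊗ X ⟶ G ⊗ X := lift (fst G X)⁻¹ a.act
  have h1 : i ≫ snd G X = a.act := lift_snd _ _
  have h2 : i ≫ a.act = snd G X := by
    conv_rhs => rw [← AlgGrp79.inv_act_act a (fst G X) (snd G X)]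
    simp [i, lift_fst_snd]
  refine hs ⟨i.left r, ?_, ?_⟩
  · show (snd G X).left (i.left r) ∈ s
    rw [← Scheme.Hom.comp_apply, ← Over.comp_left, h1]
    exact hr
  · rw [← Scheme.Hom.comp_apply, ← Over.comp_left, h2]

section Affine

variable {A : Type u} [CommRing A] [HopfAlgebra k A] (ψ : GMod80.sp k A ≅ G) [IsMonHom ψ.hom]
  (hLR : HopfRep.IsLinearlyReductive k A) [IsAffine X.left] {Y : Over (Spec (CommRingCat.of k))} [IsAffine Y.left]
  {φ : X ⟶ Y}

include ψ hLR in
/-- a closed orbit is separated by the quotient from closed invariant sets missing it -/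
theorem notMem_image (h : AffQuot.AffQ a φ) {C : Set X.left} (hC : IsClosed C)
    (hCi : a.act.left.base '' ((snd G X).left.base ⁻¹' C) ⊆ C) {x : X.left} (hx : x ∉ C)
    {Ω : Type u} [Field Ω] {T : Over (Spec (CommRingCat.of k))} (eT : T.left ≅ Spec (CommRingCat.of Ω))
    (f : T ⟶ X) (hfx : Set.range f.left.base = {x}) (hcl : IsClosed (Set.range (GIT.psi a f).left.base)) :
    φ.left x ∉ φ.left.base '' C := by
  rintro ⟨c, hc, hcx⟩
  haveI : IsAffine T.left := .of_isIso eT.hom
  haveI : IsAffine (X ⊗ T).left := inferInstanceAs (IsAffine (pullback X.hom T.hom))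
  haveI : IsAffine (Y ⊗ T).left := inferInstanceAs (IsAffine (pullback Y.hom T.hom))
  have hpb : IsPullback (fst X T) (φ ▷ T) φ (fst Y T) := by
    refine IsPullback.of_map (Over.forget _) (whiskerRight_fst φ T).symm ?_
    exact (Quot.isPullback_whiskerRight_left T φ).flip
  let aT := bcAction h.inv hpb
  have hQ : AffQuot.AffQ aT (φ ▷ T) :=
    h.baseChange ψ hLR (fst X T) (φ ▷ T) (fst Y T) hpb aT (bcAction_act_fst h.inv hpb) (bcAction_invariant h.inv hpb)
  have hfstT : aT.act ≫ fst X T = (G ◁ fst X T) ≫ a.act := bcAction_act_fst h.inv hpb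
  have hsndT : aT.act ≫ snd X T = snd G (X ⊗ T) ≫ snd X T := by
    have e := congrArg (· ≫ snd Y T) (bcAction_invariant h.inv hpb)
    simpa [aT] using e
  let μT : G ⊗ (G ⊗ T) ⟶ G ⊗ T := lift (fst G (G ⊗ T) * (snd G (G ⊗ T) ≫ fst G T)) (snd G (G ⊗ T) ≫ snd G T)
  have heqv : (G ◁ GIT.psi a f) ≫ aT.act = μT ≫ GIT.psi a f := by
    apply CartesianMonoidalCategory.hom_ext
    · simp only [μT, GIT.psi, Category.assoc, hfstT, lift_fst, lift_whiskerLeft_assoc]
      rw [AlgGrp79.mul_act', ← MonoidalCategory.whiskerLeft_comp_assoc, lift_fst,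
        MonoidalCategory.whiskerLeft_comp]
      rw [show G ◁ (G ◁ f) ≫ G ◁ a.act = lift (fst G (G ⊗ T)) (snd G (G ⊗ T) ≫ (G ◁ f) ≫ a.act) by ext <;> simp]
      rw [show lift (snd G (G ⊗ T) ≫ fst G T) (snd G (G ⊗ T) ≫ snd G T ≫ f) ≫ a.act =
        snd G (G ⊗ T) ≫ (G ◁ f) ≫ a.act by
        rw [← comp_lift_assoc]
        refine congrArg (_ ≫ ·) (congrArg (· ≫ a.act) ?_)
        ext <;> simp]
    · simp [μT, GIT.psi, hsndT]
  let W : ULift.{u} Bool → Set (X ⊗ T).left := fun b =>
    bif b.down then (fst X T).left.base ⁻¹' C else Set.range (GIT.psi a f).left.base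
  have hW : ∀ b, IsClosed (W b) ∧ aT.act.left.base '' ((snd G (X ⊗ T)).left.base ⁻¹' W b) ⊆ W b := by
    rintro ⟨_ | _⟩
    · refine ⟨hcl, ?_⟩
      rintro _ ⟨r, ⟨s, hs⟩, rfl⟩
      obtain ⟨q, hq, -⟩ := Scheme.exists_preimage_of_isPullback
        (Quot.isPullback_whiskerLeft_left G (GIT.psi a f)) r s hs.symm
      exact ⟨μT.left q, by rw [← hq, ← Scheme.Hom.comp_apply, ← Scheme.Hom.comp_apply, ← Over.comp_left,
        ← Over.comp_left, heqv]⟩
    · refine ⟨hC.preimage (fst X T).left.continuous, ?_⟩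
      rintro _ ⟨r, hr, rfl⟩
      show (fst X T).left (aT.act.left r) ∈ C
      rw [← Scheme.Hom.comp_apply, ← Over.comp_left, hfstT, Over.comp_left, Scheme.Hom.comp_apply]
      refine hCi ⟨_, ?_, rfl⟩
      show (snd G X).left ((G ◁ fst X T).left r) ∈ C
      rw [← Scheme.Hom.comp_apply, ← Over.comp_left, whiskerLeft_snd, Over.comp_left, Scheme.Hom.comp_apply]
      exact hr
  let t₀ : T.left := eT.inv (IsLocalRing.closedPoint Ω)
  have hft : f.left t₀ = x := by
    have h : f.left t₀ ∈ Set.range f.left.base := ⟨t₀, rfl⟩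
    rw [hfx] at h
    exact h
  let y₀ := (lift (f ≫ φ) (𝟙 T)).left.base t₀
  have hy₀ : ∀ b, y₀ ∈ (φ ▷ T).left.base '' W b := by
    rintro ⟨_ | _⟩
    · refine ⟨(GIT.psi a f).left.base ((lift (1 : T ⟶ G) (𝟙 T)).left.base t₀), ⟨_, rfl⟩, ?_⟩
      rw [← Scheme.Hom.comp_apply, ← Scheme.Hom.comp_apply, ← Over.comp_left, ← Over.comp_left,
        Quot.psi_whiskerRight h.inv, lift_snd_assoc, Category.id_comp]
    · have e : φ.left c = (fst Y T).left y₀ := by
        show φ.left c = ((lift (f ≫ φ) (𝟙 T)).left ≫ (fst Y T).left) t₀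
        rw [← Over.comp_left, lift_fst, Over.comp_left, Scheme.Hom.comp_apply, hft]
        exact hcx
      obtain ⟨p, hp1, hp2⟩ := Scheme.exists_preimage_of_isPullback
        (Quot.isPullback_whiskerRight_left T φ).flip c y₀ e
      refine ⟨p, ?_, hp2⟩
      show (fst X T).left p ∈ C
      rw [hp1]
      exact hc
  obtain ⟨-, he⟩ := hQ.images ψ hLR W hW
  obtain ⟨w, hw, -⟩ : y₀ ∈ (φ ▷ T).left.base '' ⋂ b, W b := he ▸ Set.mem_iInter.2 hy₀
  obtain ⟨q, rfl⟩ : w ∈ Set.range (GIT.psi a f).left.base := Set.mem_iInter.1 hw ⟨false⟩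
  have hwC : (fst X T).left ((GIT.psi a f).left q) ∈ C := Set.mem_iInter.1 hw ⟨true⟩
  rw [← Scheme.Hom.comp_apply, ← Over.comp_left, GIT.psi, lift_fst, Over.comp_left, Scheme.Hom.comp_apply] at hwC
  have := mem_of_act_mem hCi _ hwC
  rw [← Scheme.Hom.comp_apply, ← Over.comp_left, whiskerLeft_snd, Over.comp_left, Scheme.Hom.comp_apply,
    show f.left ((snd G T).left q) = x by
      have h : f.left ((snd G T).left q) ∈ Set.range f.left.base := ⟨_, rfl⟩
      rw [hfx] at h
      exact h] at this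
  exact hx this

end Affine

variable [CharZero k] [LocallyOfFiniteType X.hom] [QuasiCompact X.hom] (hG : Red.IsReductive G)
  (B : GLinSh.LinBun G a)

include hG in
/-- stable points are regular -/
theorem exists_open_regular {x : X.left} (hx : B.IsStablePt x) :
    ∃ W : X.left.Opens, x ∈ W ∧ ∀ y ∈ W, sd a y = sd a x := by
  haveI := hG.1
  haveI := hG.2.1
  haveI : IsAffine G.left := isAffine_of_isAffineHom G.hom
  haveI := SSRed.connectedSpace_of_reductive hG
  obtain ⟨n, F, hn, hF, hxF, W, hW, hWa, hcl⟩ := hx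
  have hinv := Sections.preimage_invariant hF hW
  obtain ⟨A, _, _, ψ, hψ, -, hLR⟩ := AffQuot.exists_coord_linRed G hG
  haveI := hψ
  haveI : IsAffine (openObj W).left := hWa
  haveI : LocallyOfFiniteType (openObj W).hom := inferInstanceAs (LocallyOfFiniteType (W.ι ≫ X.hom))
  obtain ⟨Y, φ, hYa, hQ, -, -⟩ := AffQuot.exists_affQ ψ hLR (openObj W) (resAct a W hinv)
  haveI := hYa
  have horb := hQ.surjective_PsiY ψ hLR (Glue.isClosedAction_resAct hinv hcl)
  obtain ⟨V, hxV, hV⟩ := exists_open_sd_eq (resAct a W hinv) hQ.inv horb ⟨x, hW.ge hxF⟩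
  refine ⟨W.ι ''ᵁ V, ⟨_, hxV, rfl⟩, ?_⟩
  rintro _ ⟨y, hy, rfl⟩
  have h := hV y hy
  rw [sd_resAct, sd_resAct] at h
  exact h

include hG in
/-- orbits of stable points are closed in the semistable locus -/
theorem isClosed_orbit_ssLocus {U : X.left.Opens} (hU : (U : Set X.left) = B.ssLocus) {x : X.left}
    (hx : B.IsStablePt x) (Ω : Type u) [Field Ω] [IsAlgClosed Ω] (T : Over (Spec (CommRingCat.of k)))
    (eT : T.left ≅ Spec (CommRingCat.of Ω)) (f : T ⟶ X) (hf : Set.range f.left.base = {x}) :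
    IsClosed ((fun p : (fst X T).left ⁻¹ᵁ U => (p : (X ⊗ T).left)) ⁻¹' Set.range (GIT.psi a f).left.base) := by
  haveI := B.atlas.affine
  obtain ⟨n, F, hn, hF, hxF, W, hW, hWa, hclW⟩ := hx
  have hWg : W ∈ Glue.goodSet B := ⟨n, F, hn, hF, hW, hWa⟩
  rw [← closure_subset_iff_isClosed]
  rintro ⟨p, hpU⟩ hp
  have hp' : p ∈ closure (Set.range (GIT.psi a f).left.base) :=
    map_mem_closure continuous_subtype_val hp fun q hq => hq
  obtain ⟨n', F', hn', hF', hxF', W', hW', hWa'⟩ := show B.IsSemistablePt ((fst X T).left p) from hU.le hpU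
  have hWg' : W' ∈ Glue.goodSet B := ⟨n', F', hn', hF', hW', hWa'⟩
  obtain ⟨N, E', E, hN, hE', hE, hWE', hWE⟩ := Glue.exists_common hWg' hWg
  obtain ⟨r, -, hr, hrb⟩ := Glue.exists_transition hE' hE hWE' hWE
  let hinv := Sections.preimage_invariant hE' hWE'
  let O : (X ⊗ T).left.Opens := (fst X T).left ⁻¹ᵁ W'
  have hpO : p ∈ O := hW'.ge hxF'
  let P := GIT.psi a f
  have hfst : P ≫ fst X T = (G ◁ f) ≫ a.act := by simp [P, GIT.psi]
  have hfx : ∀ t, f.left t = x := fun t => by
    have h : f.left t ∈ Set.range f.left.base := ⟨t, rfl⟩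
    rw [hf] at h
    exact h
  -- the orbit meets the neighbourhood
  have hxW' : x ∈ W' := by
    obtain ⟨_, hqO, q, rfl⟩ := mem_closure_iff.1 hp' O O.isOpen hpO
    have h1 : (G ◁ f).left q ∈ a.act.left ⁻¹ᵁ W' := by
      show a.act.left ((G ◁ f).left q) ∈ W'
      rw [← Scheme.Hom.comp_apply, ← Over.comp_left, ← hfst, Over.comp_left, Scheme.Hom.comp_apply]
      exact hqO
    rw [Sections.preimage_invariant hE' hWE'] at h1
    have h2 : (snd G X).left ((G ◁ f).left q) ∈ W' := h1
    rwa [← Scheme.Hom.comp_apply, ← Over.comp_left, whiskerLeft_snd, Over.comp_left, Scheme.Hom.comp_apply,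
      hfx] at h2
  have hTW : ⊤ ≤ f.left ⁻¹ᵁ W' := fun t _ => by
    show f.left t ∈ W'
    rw [hfx]
    exact hxW'
  let c : Γ(T.left, ⊤) := f.left.appLE W' ⊤ hTW r
  have hcu : IsUnit c := by
    haveI : Subsingleton T.left := eT.hom.homeomorph.injective.subsingleton (β := PrimeSpectrum Ω)
    have hxr : x ∈ X.left.basicOpen r := by
      rw [hrb]
      exact ⟨hxW', hW.ge hxF⟩
    have : T.left.basicOpen c = ⊤ := by
      rw [Scheme.basicOpen_appLE]
      refine top_le_iff.1 fun t _ => ⟨trivial, ?_⟩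
      show f.left t ∈ X.left.basicOpen r
      rw [hfx]
      exact hxr
    refine T.left.toRingedSpace.isUnit_of_isUnit_germ ⊤ c fun t ht => ?_
    exact (Scheme.mem_basicOpen _ _ t ht).1 (by rw [this]; trivial)
  have hOs : O ≤ (snd X T).left ⁻¹ᵁ ⊤ := fun _ _ => trivial
  let u : Γ((X ⊗ T).left, O) := (fst X T).left.appLE W' O le_rfl r
  let d : Γ((X ⊗ T).left, O) := u - (snd X T).left.appLE ⊤ O hOs c
  have hd : P.left.appLE O (P.left ⁻¹ᵁ O) le_rfl d = 0 := by
    rw [map_sub, sub_eq_zero]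
    have hQ : P.left ⁻¹ᵁ O ≤ (G ◁ f).left ⁻¹ᵁ ((snd G X).left ⁻¹ᵁ W') := fun q hq => by
      rw [← Sections.preimage_invariant hE' hWE']
      show a.act.left ((G ◁ f).left q) ∈ W'
      rw [← Scheme.Hom.comp_apply, ← Over.comp_left, ← hfst, Over.comp_left, Scheme.Hom.comp_apply]
      exact hq
    have h1 := congrArg ((G ◁ f).left.appLE _ (P.left ⁻¹ᵁ O) hQ) hr
    simp only [u, c, ← CommRingCat.comp_apply, Scheme.Hom.appLE_comp_appLE] at h1 ⊢
    have ea : P.left ≫ (fst X T).left = (G ◁ f).left ≫ a.act.left := by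
      rw [← Over.comp_left, ← Over.comp_left, hfst]
    have eb : P.left ≫ (snd X T).left ≫ f.left = (G ◁ f).left ≫ (snd G X).left := by
      rw [← Over.comp_left, ← Over.comp_left, ← Over.comp_left, whiskerLeft_snd]
      simp [P, GIT.psi]
    exact (congr($(LineBundle.appLE_congr_hom ea _ _).hom r)).trans
      (h1.trans (congr($(LineBundle.appLE_congr_hom eb _ _).hom r)).symm)
  have hdisj : ∀ q, P.left q ∉ (X ⊗ T).left.basicOpen d := fun q hq => by
    have : q ∈ P.left ⁻¹ᵁ (X ⊗ T).left.basicOpen d := hq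
    rw [Scheme.preimage_basicOpen, Scheme.Hom.app_eq_appLE, hd, Scheme.basicOpen_zero] at this
    exact this
  have hpu : p ∈ (X ⊗ T).left.basicOpen u := by
    rw [Scheme.mem_basicOpen _ _ p hpO]
    have hnu : ¬ IsUnit ((X ⊗ T).left.presheaf.germ O p hpO d) := by
      rw [← Scheme.mem_basicOpen]
      intro hpd
      obtain ⟨_, hq, q, rfl⟩ := mem_closure_iff.1 hp' _ ((X ⊗ T).left.basicOpen d).isOpen hpd
      exact hdisj q hq
    have hcu' : IsUnit ((X ⊗ T).left.presheaf.germ O p hpO ((snd X T).left.appLE ⊤ O hOs c)) :=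
      (hcu.map _).map _
    have hsum : (X ⊗ T).left.presheaf.germ O p hpO u = (X ⊗ T).left.presheaf.germ O p hpO d +
        (X ⊗ T).left.presheaf.germ O p hpO ((snd X T).left.appLE ⊤ O hOs c) := by
      rw [← map_add, sub_add_cancel]
    rw [hsum]
    by_contra hns
    have := IsLocalRing.nonunits_add hns (show -((X ⊗ T).left.presheaf.germ O p hpO d) ∈ nonunits _ from
      fun h => hnu (by simpa using h.neg))
    exact this (by simpa using hcu')
  rw [Scheme.basicOpen_appLE] at hpu
  have hpW : (fst X T).left p ∈ W := by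
    have h : (fst X T).left p ∈ X.left.basicOpen r := hpu.2
    rw [hrb] at h
    exact h.2
  have hcl := hclW Ω T eT f (by rw [hf, Set.singleton_subset_iff]; exact hW.ge hxF)
  show p ∈ Set.range P.left.base
  by_contra hne
  have hop := ((fst X T).left ⁻¹ᵁ W).isOpen.isOpenMap_subtype_val _ hcl.isOpen_compl
  obtain ⟨_, ⟨⟨q, hqW⟩, hq, rfl⟩, hq'⟩ := mem_closure_iff.1 hp' _ hop ⟨⟨p, hpW⟩, hne, rfl⟩
  exact hq hq'

include hG in
/-- regular points with closed orbit in an affine invariant locus are stable -/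
theorem isStablePt_of_regular {x : X.left} (W : X.left.Opens) (hxW : x ∈ W)
    (hreg : ∀ y ∈ W, sd a y = sd a x) {n : ℕ} {F : Γ(B.V.left, ⊤)} (U : X.left.Opens) (hn : 1 ≤ n)
    (hF : B.IsInvSection n F) (hU : (U : Set X.left) = GLinSh.nonvanishing B.π F) (hUa : IsAffineOpen U)
    (hxU : x ∈ U)
    (hcl : ∀ (Ω : Type u) [Field Ω] [IsAlgClosed Ω] (T : Over (Spec (CommRingCat.of k)))
        (_ : T.left ≅ Spec (CommRingCat.of Ω)) (g : T ⟶ X), Set.range g.left.base = {x} →
          IsClosed ((fun p : (fst X T).left ⁻¹ᵁ U => (p : (X ⊗ T).left)) ⁻¹' Set.range (GIT.psi a g).left.base)) :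
    B.IsStablePt x := by
  haveI := hG.1
  haveI := hG.2.1
  haveI : IsAffine G.left := isAffine_of_isAffineHom G.hom
  haveI := SSRed.connectedSpace_of_reductive hG
  haveI : QuasiCompact G.hom := inferInstance
  haveI : UniversallyOpen G.hom := inferInstance
  haveI := B.atlas.affine
  have hinv := Sections.preimage_invariant hF hU
  obtain ⟨A, _, _, ψ, hψ, -, hLR⟩ := AffQuot.exists_coord_linRed G hG
  haveI := hψ
  haveI : IsAffine (openObj U).left := hUa
  haveI : LocallyOfFiniteType (openObj U).hom := inferInstanceAs (LocallyOfFiniteType (U.ι ≫ X.hom))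
  let a' := resAct a U hinv
  let x₀ : (openObj U).left := ⟨x, hxU⟩
  let Bad : Set (openObj U).left := {y | sd a' y ≠ sd a' x₀}
  have hxC : x₀ ∉ closure Bad := by
    intro h
    obtain ⟨y, hyW, hy⟩ := mem_closure_iff.1 h _ (U.ι ⁻¹ᵁ W).isOpen hxW
    refine hy ?_
    rw [sd_resAct, sd_resAct]
    exact hreg _ hyW
  have hCi := image_closure (a := a') (s := Bad) fun r hr => by
    show sd a' (a'.act.left r) ≠ _
    rw [sd_act]
    exact hr
  obtain ⟨Y, φ, hYa, hQ, -, -⟩ := AffQuot.exists_affQ ψ hLR (openObj U) a'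
  haveI := hYa
  obtain ⟨Ω, _, _, T, eT, f, hf⟩ := exists_geom_pt (X := openObj U) x₀
  have hfX : Set.range (f ≫ openIncl U).left.base = {x} := by
    rw [Over.comp_left, Scheme.Hom.comp_base, TopCat.coe_comp, Set.range_comp, hf, Set.image_singleton]
    rfl
  have hxφ := notMem_image ψ hLR hQ isClosed_closure hCi hxC eT f hf
    (isClosed_range_res hinv f (hcl Ω T eT _ hfX))
  have hcl' : IsClosed (φ.left.base '' closure Bad) := by
    have h := (hQ.images ψ hLR (fun _ : PUnit.{u + 1} => closure Bad) (fun _ => ⟨isClosed_closure, hCi⟩)).1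
    rwa [Set.iInter_const] at h
  obtain ⟨h₀, hle, hmem⟩ := (isAffineOpen_top Y.left).exists_basicOpen_le
    (V := ⟨_, hcl'.isOpen_compl⟩) ⟨φ.left x₀, hxφ⟩ trivial
  let q := φ.left.appTop h₀
  let r := U.topIso.hom q
  have hr := inv_topIso' U hinv q (AffQuot.inv_appTop hQ.inv h₀)
  have hrb : ∀ y : (openObj U).left, U.ι y ∈ X.left.basicOpen r ↔ φ.left y ∈ Y.left.basicOpen h₀ := by
    intro y
    have e : U.ι ⁻¹ᵁ X.left.basicOpen r = φ.left ⁻¹ᵁ Y.left.basicOpen h₀ := by
      rw [Scheme.Hom.preimage_basicOpen, Scheme.Hom.preimage_basicOpen]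
      have e1 : U.ι.app U r = U.toScheme.presheaf.map (homOfLE le_top).op q := by
        show (U.topIso.hom ≫ U.ι.app U) q = _
        have h2 : U.topIso.hom ≫ U.ι.app U = U.toScheme.presheaf.map (homOfLE le_top).op := by
          rw [Scheme.Opens.topIso_hom, Scheme.Opens.ι_app]
          exact (X.left.presheaf.map_comp _ _).symm
        exact congr($h2 q)
      rw [e1, Scheme.basicOpen_res, inf_eq_right.2 (le_top.trans_eq U.ι_preimage_self.symm)]
      rfl
    exact SetLike.ext_iff.1 e y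
  haveI : CompactSpace X.left := QuasiCompact.compactSpace_of_compactSpace X.hom
  haveI := quasiCompact_total B
  haveI : CompactSpace B.V.left := QuasiCompact.compactSpace_of_compactSpace B.V.hom
  haveI : IsLocallyNoetherian X.left := LocallyOfFiniteType.isLocallyNoetherian X.hom
  haveI := quasiSeparated_total B
  haveI : QuasiSeparatedSpace B.V.left := quasiSeparatedSpace_of_quasiSeparated B.V.hom
  haveI : CompactSpace (G ⊗ B.V).left := by
    haveI : QuasiCompact (G ⊗ B.V).hom := by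
      show QuasiCompact (pullback.fst G.hom B.V.hom ≫ G.hom)
      infer_instance
    exact QuasiCompact.compactSpace_of_compactSpace (G ⊗ B.V).hom
  obtain ⟨M, g, hM, hg, hgnv⟩ := Sections.exists_invSection_extension B hF hU r hinv hr
  refine ⟨M * n, g, Nat.mul_pos hM hn, hg, ?_, X.left.basicOpen r, hgnv.symm, hUa.basicOpen r, ?_⟩
  · rw [hgnv]
    exact (hrb x₀).2 hmem
  · refine closedOrbitsOn_of_sd_const a _ ?_
    have key : ∀ y ∈ X.left.basicOpen r, sd a y = sd a' x₀ := by
      intro y hy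
      let y' : (openObj U).left := ⟨y, X.left.basicOpen_le r hy⟩
      have : y' ∉ Bad := fun h => hle ((hrb y').1 hy) ⟨y', subset_closure h, rfl⟩
      simp only [Bad, Set.mem_setOf_eq, ne_eq, not_not] at this
      rw [← this, sd_resAct]
      rfl
    intro y hy y' hy'
    rw [key y hy, key y' hy']

end Groth.Agent.GIT36.Regular
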